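import Groth.Agent.Lib.HyperDeg62.Basic
import Groth.Prelude.Def_KLinDR
import Mathlib.RingTheory.Noetherian.Basic

/-!
Hypercohomology of a bounded complex with finite `Ext` is finite over a Noetherian ring acting on the complex.
-/

set_option autoImplicit false
universe w w' v u u'
open CategoryTheory CategoryTheory.Limits CategoryTheory.Pretriangulated KLinDR

namespace Groth.Agent.Lib.HyperDeg62.Finite

open Groth.Agent.H95.HyperVanish

variable {C : Type u} [Category.{v} C] [Abelian C] [HasExt.{w'} C]
  {R : Type u'} [CommRing R] {A : C}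

/-- `Ext^q(A, M)` is finite over `R` acting through `act`. -/
def ExtFin (A : C) (M : C) (act : R → (M ⟶ M)) (q : ℕ) : Prop :=
  ∃ (N : Type w') (_ : AddCommGroup N) (_ : Module R N) (_ : Module.Finite R N)
    (e : N ≃+ Abelian.Ext.{w'} A M q),
      ∀ (r : R) (x : N), e (r • x) = (e x).comp (Abelian.Ext.mk₀ (act r)) (add_zero q)

theorem ExtFin.of_iso {M M' : C} {act : R → (M ⟶ M)} {act' : R → (M' ⟶ M')} {q : ℕ}
    (h : ExtFin A M act q) (e : M ≅ M') (he : ∀ r, act r ≫ e.hom = e.hom ≫ act' r) :
    ExtFin A M' act' q := by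
  obtain ⟨N, _, _, hN, g, hg⟩ := h
  refine ⟨N, _, _, hN, g.trans (extAddEquiv e q), fun r x => ?_⟩
  change (g (r • x)).comp (Abelian.Ext.mk₀ e.hom) (add_zero q) =
    ((g x).comp (Abelian.Ext.mk₀ e.hom) (add_zero q)).comp (Abelian.Ext.mk₀ (act' r)) (add_zero q)
  rw [hg, Abelian.Ext.comp_assoc_of_second_deg_zero, Abelian.Ext.comp_assoc_of_second_deg_zero,
    Abelian.Ext.mk₀_comp_mk₀, Abelian.Ext.mk₀_comp_mk₀, he]

variable [HasDerivedCategory.{w} C]

/-- one term -/
theorem finite_one (i a : ℤ) (E : CochainComplex C ℤ) (hz : ∀ j, j ≠ a → IsZero (E.X j))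
    (ρ : R →+* End E)
    (h : ∀ q : ℕ, a + q = i → ExtFin A (E.X a) (fun r => (ρ r : E ⟶ E).f a) q) :
    Module.Finite R (HTρ A E ρ i) := by
  by_cases hai : a ≤ i
  · obtain ⟨q, hq⟩ : ∃ q : ℕ, a + (q : ℤ) = i := ⟨(i - a).toNat, by omega⟩
    obtain ⟨e, he⟩ := exists_addEquiv.{w, w'} (A := A) (i := i) 1 a E (fun j hj => hz j (by omega)) a q le_rfl
      (by omega) hq fun j q' hj hj' _ hne => absurd (show j = a by omega) hne
    obtain ⟨N, _, _, hN, g, hg⟩ := h q hq
    let L : N →ₗ[R] HTρ A E ρ i :=
      { toFun := fun x => HTρ.toHT.symm (e.symm (g x))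
        map_add' := fun x y => by rw [map_add, map_add]; exact map_add _ _ _
        map_smul' := fun r x => by
          apply e.injective
          refine (e.apply_symm_apply _).trans ((hg r x).trans (Eq.trans ?_ (he (ρ r) _).symm))
          rw [show e (HTρ.toHT (HTρ.toHT.symm (e.symm (g x))) : Hi A _ i) = g x from e.apply_symm_apply _] }
    exact Module.Finite.of_surjective L fun y =>
      ⟨g.symm (e (HTρ.toHT y)), by
        change HTρ.toHT.symm (e.symm (g (g.symm (e (HTρ.toHT y))))) = y
        rw [g.apply_symm_apply, e.symm_apply_apply, AddEquiv.symm_apply_apply]⟩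
  · have hvan : Van A (DerivedCategory.Q.obj E) i :=
      van_Q_of_bounded.{w, w'} 1 a E (fun j hj => hz j (by omega)) fun j q hj _ hjq => by omega
    haveI : Subsingleton (HTρ A E ρ i) := ⟨fun x y => (hvan x).trans (hvan y).symm⟩
    infer_instance

/-- Hypercohomology of a bounded complex with finite terms is finite. -/
theorem finite [IsNoetherianRing R] (i : ℤ) (l : ℕ) : ∀ (a : ℤ) (E : CochainComplex C ℤ),
    (∀ j, j < a ∨ a + (l : ℤ) ≤ j → IsZero (E.X j)) → ∀ (ρ : R →+* End E),
    (∀ (j : ℤ) (q : ℕ), j + q = i → ExtFin A (E.X j) (fun r => (ρ r : E ⟶ E).f j) q) →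
    Module.Finite R (HTρ A E ρ i) := by
  induction l with
  | zero =>
    intro a E hz ρ _
    have hvan : Van A (DerivedCategory.Q.obj E) i :=
      van_Q_of_bounded.{w, w'} 0 a E hz fun j q hj hj' _ => by omega
    haveI : Subsingleton (HTρ A E ρ i) := ⟨fun x y => (hvan x).trans (hvan y).symm⟩
    infer_instance
  | succ l ih =>
    intro a E hz ρ hE
    obtain ⟨S, φ, hSlt, -, hSz, hiso, -⟩ := Lib.DR.FiniteComplex.exists_stupidTrunc
      (P := fun _ : C => True) ⟨fun _ => trivial, fun _ _ => trivial, fun _ _ => trivial⟩ E (a + 1)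
      fun _ => trivial
    have hm : ∀ j, Mono (φ.f j) := fun j => by
      by_cases h : a + 1 ≤ j
      · have := hiso j h; infer_instance
      · exact ⟨fun _ _ _ => (hSlt j (by lia)).eq_of_tgt _ _⟩
    have : Mono φ := HomologicalComplex.mono_of_mono_f φ hm
    let T := ShortComplex.mk φ (cokernel.π φ) (cokernel.condition φ)
    have hT : T.ShortExact :=
      { exact := ShortComplex.exact_of_g_is_cokernel _ (cokernelIsCokernel φ) }
    have hepi : ∀ j, Epi ((cokernel.π φ).f j) := fun j =>
      inferInstanceAs (Epi ((HomologicalComplex.eval C (.up ℤ) j).map (cokernel.π φ)))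
    have hC : ∀ j, j ≠ a → IsZero ((cokernel φ).X j) := fun j hj => by
      have h0 : (cokernel.π φ).f j = 0 := by
        by_cases h : a + 1 ≤ j
        · have := hiso j h
          rw [← cancel_epi (φ.f j), ← HomologicalComplex.comp_f, cokernel.condition]
          simp
        · exact (hz j (by lia)).eq_of_src _ _
      have := hepi j
      exact IsZero.of_epi_eq_zero _ h0
    have hSb : ∀ j, j < a + 1 ∨ a + 1 + (l : ℤ) ≤ j → IsZero (S.X j) := fun j hj => by
      rcases hj with hj | hj
      · exact hSlt j hj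
      · exact hSz j (hz j (by lia))
    haveI : IsIso ((cokernel.π φ).f a) := by
      haveI := hepi a
      haveI : Mono ((cokernel.π φ).f a) :=
        (hT.map_of_exact (HomologicalComplex.eval C (.up ℤ) a)).exact.mono_g
          ((hSlt a (by lia)).eq_of_src _ _)
      exact isIso_of_mono_of_epi _
    -- restriction of endomorphisms
    have hres : ∀ ψ : E ⟶ E, ∃ ψS : S ⟶ S, ψS ≫ φ = φ ≫ ψ := fun ψ => by
      have h0 : ∀ j, ∃ g : S.X j ⟶ S.X j, g ≫ φ.f j = φ.f j ≫ ψ.f j := fun j => by
        by_cases h : a + 1 ≤ j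
        · have := hiso j h
          exact ⟨φ.f j ≫ ψ.f j ≫ inv (φ.f j), by simp⟩
        · exact ⟨0, (hSlt j (by lia)).eq_of_src _ _⟩
      choose g hg using h0
      refine ⟨{ f := g, comm' := fun j j' _ => ?_ }, HomologicalComplex.hom_ext _ _ hg⟩
      have := hm j'
      rw [← cancel_mono (φ.f j'), Category.assoc, ← φ.comm, reassoc_of% hg j, ψ.comm, φ.comm_assoc,
        Category.assoc, hg j']
    choose fS hfS using fun r : R => hres (ρ r)
    let ρS : R →+* End S :=
      { toFun := fS
        map_one' := by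
          apply (cancel_mono φ).1
          rw [hfS, map_one]
          exact (Category.comp_id φ).trans (Category.id_comp φ).symm
        map_zero' := by
          apply (cancel_mono φ).1
          rw [hfS, map_zero]
          exact comp_zero.trans zero_comp.symm
        map_add' := fun r s => by
          apply (cancel_mono φ).1
          rw [hfS, map_add]
          exact (Preadditive.comp_add _ _ _ φ _ _).trans
            ((congrArg₂ (· + ·) (hfS r).symm (hfS s).symm).trans (Preadditive.add_comp _ _ _ _ _ _).symm)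
        map_mul' := fun r s => by
          apply (cancel_mono φ).1
          rw [hfS, map_mul]
          change φ ≫ (ρ s : E ⟶ E) ≫ (ρ r : E ⟶ E) = (fS s ≫ fS r) ≫ φ
          rw [Category.assoc, hfS, reassoc_of% hfS s] }
    let fC : R → (cokernel φ ⟶ cokernel φ) := fun r => cokernel.map φ φ (fS r) (ρ r) (hfS r).symm
    have hfC : ∀ r, cokernel.π φ ≫ fC r = (ρ r : E ⟶ E) ≫ cokernel.π φ := fun r => cokernel.π_desc _ _ _
    let ρC : R →+* End (cokernel φ) :=
      { toFun := fC
        map_one' := by
          apply (cancel_epi (cokernel.π φ)).1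
          rw [hfC, map_one]
          exact (Category.id_comp _).trans (Category.comp_id _).symm
        map_zero' := by
          apply (cancel_epi (cokernel.π φ)).1
          rw [hfC, map_zero]
          exact zero_comp.trans comp_zero.symm
        map_add' := fun r s => by
          apply (cancel_epi (cokernel.π φ)).1
          rw [hfC, map_add]
          exact (Preadditive.add_comp _ _ _ _ _ _).trans
            ((congrArg₂ (· + ·) (hfC r).symm (hfC s).symm).trans
              (Preadditive.comp_add _ _ _ (cokernel.π φ) _ _).symm)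
        map_mul' := fun r s => by
          apply (cancel_epi (cokernel.π φ)).1
          rw [hfC, map_mul]
          change ((ρ s : E ⟶ E) ≫ (ρ r : E ⟶ E)) ≫ cokernel.π φ = cokernel.π φ ≫ fC s ≫ fC r
          rw [reassoc_of% hfC s, hfC, Category.assoc] }
    haveI : Module.Finite R (HTρ A S ρS i) := ih (a + 1) S hSb ρS fun j q hjq => by
      by_cases hj : a + 1 ≤ j
      · have := hiso j hj
        refine (hE j q hjq).of_iso (asIso (φ.f j)).symm fun r => ?_
        have h2 : (fS r).f j ≫ φ.f j = φ.f j ≫ (ρ r : E ⟶ E).f j :=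
          congrArg (fun g : S ⟶ E => g.f j) (hfS r)
        change (ρ r : E ⟶ E).f j ≫ inv (φ.f j) = inv (φ.f j) ≫ (fS r).f j
        rw [IsIso.eq_inv_comp, ← Category.assoc, IsIso.comp_inv_eq, h2]
      · have h0 := hSlt j (by lia)
        haveI : Subsingleton (Abelian.Ext.{w'} A (S.X j) q) := ⟨fun x y => by
          have hid : (𝟙 (S.X j)) = 0 := h0.eq_of_src _ _
          rw [← Abelian.Ext.comp_mk₀_id x, ← Abelian.Ext.comp_mk₀_id y, hid, Abelian.Ext.mk₀_zero,
            Abelian.Ext.comp_zero, Abelian.Ext.comp_zero]⟩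
        exact ⟨PUnit, inferInstance, inferInstance, inferInstance,
          { toFun := fun _ => 0
            invFun := fun _ => PUnit.unit
            left_inv := fun _ => rfl
            right_inv := fun _ => Subsingleton.elim _ _
            map_add' := fun _ _ => Subsingleton.elim _ _ }, fun _ _ => Subsingleton.elim _ _⟩
    haveI : Module.Finite R (HTρ A (cokernel φ) ρC i) :=
      finite_one i a _ hC ρC fun q hq => (hE a q hq).of_iso (asIso ((cokernel.π φ).f a)) fun r =>
        (congrArg (fun g : E ⟶ cokernel φ => g.f a) (hfC r)).symm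
    let F : HTρ A S ρS i →ₗ[R] HTρ A E ρ i := HTρmap A φ (ρ' := ρ) (show Commutes ρS ρ φ from hfS) i
    let G : HTρ A E ρ i →ₗ[R] HTρ A (cokernel φ) ρC i :=
      HTρmap A (cokernel.π φ) (show Commutes ρ ρC (cokernel.π φ) from fun r => (hfC r).symm) i
    have hFG : LinearMap.range F = LinearMap.ker G := by
      apply le_antisymm
      · rintro _ ⟨x, rfl⟩
        change (HTρ.toHT x ≫ (DerivedCategory.Q.map φ)⟦i⟧') ≫ (DerivedCategory.Q.map (cokernel.π φ))⟦i⟧' = 0
        rw [Category.assoc, ← Functor.map_comp, ← Functor.map_comp, cokernel.condition, Functor.map_zero,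
          Functor.map_zero, comp_zero]
      · intro y hy
        have hy' : HTρ.toHT y ≫ (DerivedCategory.Q.map (cokernel.π φ))⟦i⟧' = 0 := hy
        have hd := DerivedCategory.triangleOfSES_distinguished hT
        obtain ⟨g, hg⟩ := ((Triangle.shiftFunctor (DerivedCategory C) i).obj
            (DerivedCategory.triangleOfSES hT)).coyoneda_exact₂
          (Triangle.shift_distinguished _ hd i) (HTρ.toHT y) (by
            change HTρ.toHT y ≫ (i.negOnePow • (DerivedCategory.Q.map (cokernel.π φ))⟦i⟧') = 0
            rw [Linear.comp_units_smul, hy', smul_zero])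
        let g' : Hi A (DerivedCategory.Q.obj S) i := g
        have hg' : HTρ.toHT y = g' ≫ (i.negOnePow • (DerivedCategory.Q.map φ)⟦i⟧') := hg
        refine ⟨HTρ.toHT.symm (i.negOnePow • g'), ?_⟩
        change (i.negOnePow • g') ≫ (DerivedCategory.Q.map φ)⟦i⟧' = HTρ.toHT y
        rw [hg', Linear.units_smul_comp, Linear.comp_units_smul]
    haveI : IsNoetherian R (HTρ A E ρ i) := isNoetherian_of_range_eq_ker F G hFG
    infer_instance

end Groth.Agent.Lib.HyperDeg62.Finite
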