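import Groth.Agent.Lib.Kaehler.Finite
import Groth.Agent.Lib.Kaehler.DOmega
import Groth.Agent.H95.ExtPowQCoh
import Groth.Agent.H95.OmegaVanish
import Groth.Agent.Lib.CohBasics.Closure
import Groth.Agent.Lib.ZarCoh.Compare
import Groth.Agent.Lib.HyperDeg62.Finite
import Groth.Prelude.Def_KLinDR
import Mathlib.LinearAlgebra.ExteriorPower.Basis

/-!
The terms of a de Rham complex of a morphism of finite type: coherent, eventually zero.
-/

set_option autoImplicit false
universe u
open CategoryTheory CategoryTheory.Limits AlgebraicGeometry TopologicalSpace Opposite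
open Groth.Agent.Lib.QCoh.Localizing

namespace Groth.Agent.Lib.HyperDeg62.Terms

variable {X S : Scheme.{u}} {f : X ⟶ S} [QuasiSeparated f] [LocallyOfFiniteType f]

theorem isQCoh_omega : (Omega.sheaf f).IsQuasicoherent :=
  Kaehler.Finite.isQuasicoherent (Kaehler.DOmega.isUniversal_dOmega f)

theorem isCoh_omega : Coh.IsCoh (Omega.sheaf f) :=
  ⟨isQCoh_omega, Kaehler.Finite.isFT (Kaehler.DOmega.isUniversal_dOmega f)⟩

variable (D : DeRhamSh.OmegaCx f)

theorem isCoh_term (p : ℕ) : Coh.IsCoh (D.term p) := by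
  haveI := isQCoh_omega (f := f)
  haveI : (D.term p).IsQuasicoherent := H95.ExtPowQCoh.isQuasicoherent_of_loc p (D.loc p) (D.loc_res p)
  refine CohBasics.Closure.isCoh_of_finite_sections fun U hU => ?_
  obtain ⟨U, rfl⟩ : ∃ W : X.affineOpens, W.1 = U := ⟨⟨U, hU⟩, rfl⟩
  haveI : Module.Finite Γ(X, U.1) Γ(Omega.sheaf f, U.1) := CohBasics.Closure.finite_sections isCoh_omega hU
  exact Module.Finite.equiv (D.loc p U).symm

theorem exists_bound [CompactSpace X] :
    ∃ N : ℕ, ∀ p, N < p → ∀ U : X.Opens, Subsingleton Γ(D.term p, U) := by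
  classical
  haveI := isQCoh_omega (f := f)
  have hc : IsCompact ((⊤ : X.Opens) : Set X) := isCompact_univ
  choose U hU hxU hle using fun x : X =>
    exists_isAffineOpen_mem_and_subset (X := X) (x := x) (U := ⊤) trivial
  have hfin : ∀ x, ∃ (n : ℕ) (e : Fin n → Γ(Omega.sheaf f, U x)),
      Submodule.span Γ(X, U x) (Set.range e) = ⊤ := fun x =>
    haveI : Module.Finite Γ(X, U x) Γ(Omega.sheaf f, U x) := CohBasics.Closure.finite_sections isCoh_omega (hU x)
    Module.Finite.exists_fin
  choose n e he using hfin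
  obtain ⟨t, ht⟩ := hc.elim_finite_subcover (fun x => ((U x : X.Opens) : Set X)) (fun x => (U x).2)
    fun x _ => Set.mem_iUnion.2 ⟨x, hxU x⟩
  refine ⟨t.sup n, fun p hp V => ⟨fun a b => TopCat.Presheaf.IsSheaf.section_ext (D.term p).isSheaf fun x hx => ?_⟩⟩
  obtain ⟨i, hi, hxi⟩ : ∃ i ∈ t, x ∈ U i := by
    simpa using ht (show x ∈ ((⊤ : X.Opens) : Set X) from trivial)
  obtain ⟨g, hgle, hxg⟩ := (hU i).exists_basicOpen_le ⟨x, hx⟩ hxi
  have hW : IsAffineOpen (X.basicOpen g) := (hU i).basicOpen g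
  let e' : Fin (n i) → Γ(Omega.sheaf f, X.basicOpen g) := fun j => res _ (X.basicOpen_le g) (e i j)
  have hspan : Submodule.span Γ(X, X.basicOpen g) (Set.range e') = ⊤ := by
    refine eq_top_iff.2 fun y _ => ?_
    obtain ⟨m, z, hz⟩ := (localizes_of_isAffineOpen (Omega.sheaf f) (hU i) g).ext' y
    have h2 : ∀ z, res (Omega.sheaf f) (X.basicOpen_le g) z ∈
        Submodule.span Γ(X, X.basicOpen g) (Set.range e') := by
      intro z
      have hz : z ∈ Submodule.span Γ(X, U i) (Set.range (e i)) := (he i).symm ▸ Submodule.mem_top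
      induction hz using Submodule.span_induction with
      | mem z hz =>
        obtain ⟨j, rfl⟩ := hz
        exact Submodule.subset_span ⟨j, rfl⟩
      | zero => rw [map_zero]; exact Submodule.zero_mem _
      | add a b _ _ ha hb => rw [map_add]; exact Submodule.add_mem _ ha hb
      | smul r a _ ha => rw [res_smul]; exact Submodule.smul_mem _ _ ha
    haveI := (hU i).isLocalization_basicOpen g
    have hu : IsUnit (resR (X.basicOpen_le g) g) :=
      IsLocalization.Away.algebraMap_isUnit (S := Γ(X, X.basicOpen g)) g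
    have h3 := h2 z
    rw [hz] at h3
    obtain ⟨v, hv⟩ := hu.pow m
    rw [← hv] at h3
    simpa [smul_smul] using Submodule.smul_mem _ (↑v⁻¹ : Γ(X, X.basicOpen g)) h3
  haveI := H95.OmegaVanish.subsingleton_extPower e' hspan ((Finset.le_sup hi).trans_lt hp)
  haveI : Subsingleton Γ(D.term p, X.basicOpen g) := (D.loc p ⟨X.basicOpen g, hW⟩).toEquiv.subsingleton
  exact ⟨X.basicOpen g, hgle, hxg, Subsingleton.elim _ _⟩

lemma toAb_isZero (M : X.Modules) (h : ∀ U : X.Opens, Subsingleton Γ(M, U)) : IsZero (Coh.toAb M) := by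
  rw [IsZero.iff_id_eq_zero]
  ext U x
  exact @Subsingleton.elim _ (h U.unop) _ _

end Groth.Agent.Lib.HyperDeg62.Terms
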