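import Groth.Agent.H95.HyperVanish

/-!
Morphisms into a bounded complex only one of whose terms contributes.
-/

set_option autoImplicit false
universe w w' v u
open CategoryTheory CategoryTheory.Limits CategoryTheory.Pretriangulated

namespace Groth.Agent.Lib.HyperDeg62

open Groth.Agent.H95.HyperVanish

variable {C : Type u} [Category.{v} C] [Abelian C] [HasDerivedCategory.{w} C]

variable {A : C} {i : ℤ}

/-- `Hom(A, X⟦i⟧)` -/
abbrev Hi (A : C) (X : DerivedCategory C) (i : ℤ) : Type w :=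
  (DerivedCategory.singleFunctor C 0).obj A ⟶ X⟦i⟧

/-- post-composition -/
noncomputable def push (A : C) (i : ℤ) {X Y : DerivedCategory C} (φ : X ⟶ Y) : Hi A X i →+ Hi A Y i :=
  AddMonoidHom.mk' (fun f => f ≫ φ⟦i⟧') fun _ _ => Preadditive.add_comp _ _ _ _ _ _

@[simp] lemma push_apply {X Y : DerivedCategory C} (φ : X ⟶ Y) (f : Hi A X i) : push A i φ f = f ≫ φ⟦i⟧' := rfl

variable {T : Triangle (DerivedCategory C)} (hT : T ∈ distTriang _)
include hT

lemma surjective_push₁ (h : Van A T.obj₃ i) : Function.Surjective (push A i T.mor₁) := fun f => by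
  obtain ⟨g, hg⟩ := ((Triangle.shiftFunctor (DerivedCategory C) i).obj T).coyoneda_exact₂
    (Triangle.shift_distinguished T hT i) f (h _)
  let g' : Hi A T.obj₁ i := g
  have hg' : f = g' ≫ (i.negOnePow • T.mor₁⟦i⟧') := hg
  refine ⟨i.negOnePow • g', ?_⟩
  rw [push_apply, hg', Linear.units_smul_comp, Linear.comp_units_smul]

lemma injective_push₁ (h : Van A T.obj₃ (i - 1)) : Function.Injective (push A i T.mor₁) :=
  (injective_iff_map_eq_zero _).2 fun f hf => by
    let e : ∀ X : DerivedCategory C, X⟦i⟧ ≅ (X⟦i - 1⟧)⟦(1 : ℤ)⟧ := fun X =>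
      (shiftFunctorAdd' (DerivedCategory C) (i - 1) 1 i (by lia)).app X
    have hnat : T.mor₁⟦i⟧' ≫ (e T.obj₂).hom = (e T.obj₁).hom ≫ (T.mor₁⟦i - 1⟧')⟦(1 : ℤ)⟧' :=
      (shiftFunctorAdd' (DerivedCategory C) (i - 1) 1 i (by lia)).hom.naturality T.mor₁
    obtain ⟨g, hg⟩ := ((Triangle.shiftFunctor (DerivedCategory C) (i - 1)).obj T).coyoneda_exact₁
      (Triangle.shift_distinguished T hT (i - 1)) (f ≫ (e T.obj₁).hom) (by
        change (f ≫ (e T.obj₁).hom) ≫ ((i - 1).negOnePow • T.mor₁⟦i - 1⟧')⟦(1 : ℤ)⟧' = 0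
        rw [Units.smul_def, Functor.map_zsmul, Preadditive.comp_zsmul, Category.assoc, ← hnat, ← Category.assoc]
        rw [push_apply] at hf
        rw [hf, zero_comp, smul_zero])
    have h0 : f ≫ (e T.obj₁).hom = 0 := hg.trans ((congrArg (· ≫ _) (h g)).trans zero_comp)
    rwa [← cancel_mono (e T.obj₁).hom, zero_comp]

lemma injective_push₂ (h : Van A T.obj₁ i) : Function.Injective (push A i T.mor₂) :=
  (injective_iff_map_eq_zero _).2 fun f hf => by
    obtain ⟨g, hg⟩ := ((Triangle.shiftFunctor (DerivedCategory C) i).obj T).coyoneda_exact₂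
      (Triangle.shift_distinguished T hT i) f (by
        change f ≫ (i.negOnePow • T.mor₂⟦i⟧') = 0
        rw [push_apply] at hf
        rw [Linear.comp_units_smul, hf, smul_zero])
    exact hg.trans ((congrArg (· ≫ _) (h g)).trans zero_comp)

lemma surjective_push₂ (h : Van A T.obj₁ (i + 1)) : Function.Surjective (push A i T.mor₂) := fun f => by
  let e := (shiftFunctorAdd' (DerivedCategory C) i 1 (i + 1) rfl).app T.obj₁
  have h0 : ∀ g : (DerivedCategory.singleFunctor C 0).obj A ⟶ (T.obj₁⟦i⟧)⟦(1 : ℤ)⟧, g = 0 := fun g => by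
    rw [← cancel_mono e.inv, zero_comp]
    exact h _
  obtain ⟨g, hg⟩ := ((Triangle.shiftFunctor (DerivedCategory C) i).obj T).coyoneda_exact₃
    (Triangle.shift_distinguished T hT i) f (h0 _)
  let g' : Hi A T.obj₂ i := g
  have hg' : f = g' ≫ (i.negOnePow • T.mor₂⟦i⟧') := hg
  refine ⟨i.negOnePow • g', ?_⟩
  rw [push_apply, hg', Linear.units_smul_comp, Linear.comp_units_smul]

omit hT

/-- transport along an isomorphism -/
noncomputable def congr (A : C) (i : ℤ) {X Y : DerivedCategory C} (e : X ≅ Y) : Hi A X i ≃+ Hi A Y i where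
  __ := push A i e.hom
  invFun f := f ≫ e.inv⟦i⟧'
  left_inv f := by
    change (f ≫ e.hom⟦i⟧') ≫ e.inv⟦i⟧' = f
    rw [Category.assoc, ← Functor.map_comp, e.hom_inv_id, CategoryTheory.Functor.map_id, Category.comp_id]
  right_inv f := by
    change (f ≫ e.inv⟦i⟧') ≫ e.hom⟦i⟧' = f
    rw [Category.assoc, ← Functor.map_comp, e.inv_hom_id, CategoryTheory.Functor.map_id, Category.comp_id]

variable [HasExt.{w'} C]

/-- transport of `Ext` -/
noncomputable def extAddEquiv {M N : C} (e : M ≅ N) (q : ℕ) :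
    Abelian.Ext.{w'} A M q ≃+ Abelian.Ext.{w'} A N q where
  __ := extEquivOfIso e
  map_add' x y := Abelian.Ext.add_comp x y _ (add_zero q)

/-- `Hom(A, M[-p][i]) = Ext^(i-p)(A, M)` -/
theorem exists_single (M : C) (p : ℤ) (q : ℕ) (hq : p + q = i) :
    ∃ e : Hi A ((DerivedCategory.singleFunctor C p).obj M) i ≃+ Abelian.Ext.{w'} A M q,
      ∀ (m : M ⟶ M) (f : Hi A ((DerivedCategory.singleFunctor C p).obj M) i),
        e (f ≫ ((DerivedCategory.singleFunctor C p).map m)⟦i⟧') = (e f).comp (Abelian.Ext.mk₀ m) (add_zero q) := by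
  let e : DerivedCategory.singleFunctor C p ⋙ shiftFunctor (DerivedCategory C) i ≅
      DerivedCategory.singleFunctor C 0 ⋙ shiftFunctor (DerivedCategory C) (q : ℤ) :=
    (DerivedCategory.singleFunctors C).shiftIso i (p - i) p (by lia) ≪≫
      ((DerivedCategory.singleFunctors C).shiftIso (q : ℤ) (p - i) 0 (by lia)).symm
  refine ⟨{ toFun := fun f => Abelian.Ext.homAddEquiv.symm (f ≫ e.hom.app M)
            invFun := fun x => Abelian.Ext.homAddEquiv x ≫ e.inv.app M
            left_inv := fun f => (congrArg (· ≫ e.inv.app M) (AddEquiv.apply_symm_apply _ _)).trans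
              ((Category.assoc _ _ _).trans (by rw [e.hom_inv_id_app]; exact Category.comp_id _))
            right_inv := fun x => (congrArg Abelian.Ext.homAddEquiv.symm
              ((Category.assoc _ _ _).trans (by rw [e.inv_hom_id_app]; exact Category.comp_id _))).trans
              (AddEquiv.symm_apply_apply _ _)
            map_add' := fun f g => by rw [Preadditive.add_comp]; exact map_add _ _ _ }, fun m f => ?_⟩
  apply Abelian.Ext.homAddEquiv.injective
  refine (AddEquiv.apply_symm_apply _ _).trans ?_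
  rw [Abelian.Ext.homAddEquiv_apply, Abelian.Ext.comp_hom, Abelian.Ext.mk₀_hom, ShiftedHom.comp_mk₀]
  refine Eq.trans ?_ (congrArg (· ≫ _) (AddEquiv.apply_symm_apply Abelian.Ext.homAddEquiv (f ≫ e.hom.app M))).symm
  exact ((Category.assoc _ _ _).trans (congrArg (f ≫ ·) (e.hom.naturality m))).trans (Category.assoc _ _ _).symm

/-- only one term contributes -/
theorem exists_addEquiv (l : ℕ) : ∀ (a : ℤ) (E : CochainComplex C ℤ),
    (∀ j, j < a ∨ a + (l : ℤ) ≤ j → IsZero (E.X j)) →
    ∀ (j₀ : ℤ) (q₀ : ℕ), a ≤ j₀ → j₀ < a + l → j₀ + q₀ = i →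
    (∀ (j : ℤ) (q : ℕ), a ≤ j → j < a + l → (j + q = i - 1 ∨ j + q = i ∨ j + q = i + 1) → j ≠ j₀ →
      Subsingleton (Abelian.Ext.{w'} A (E.X j) q)) →
    ∃ e : Hi A (DerivedCategory.Q.obj E) i ≃+ Abelian.Ext.{w'} A (E.X j₀) q₀, ∀ (ψ : E ⟶ E) (f),
      e (f ≫ (DerivedCategory.Q.map ψ)⟦i⟧') = (e f).comp (Abelian.Ext.mk₀ (ψ.f j₀)) (add_zero q₀) := by
  induction l with
  | zero => intros; omega
  | succ l ih =>
    intro a E hz j₀ q₀ hj₀ hj₀' hsum hE
    obtain ⟨S, φ, hSlt, -, hSz, hiso, -⟩ := Lib.DR.FiniteComplex.exists_stupidTrunc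
      (P := fun _ : C => True) ⟨fun _ => trivial, fun _ _ => trivial, fun _ _ => trivial⟩ E (a + 1)
      fun _ => trivial
    have hm : ∀ j, Mono (φ.f j) := fun j => by
      by_cases h : a + 1 ≤ j
      · have := hiso j h; infer_instance
      · exact ⟨fun _ _ _ => (hSlt j (by lia)).eq_of_tgt _ _⟩
    have : Mono φ := HomologicalComplex.mono_of_mono_f φ hm
    let T := ShortComplex.mk φ (cokernel.π φ) (cokernel.condition φ)
    have hT : T.ShortExact :=
      { exact := ShortComplex.exact_of_g_is_cokernel _ (cokernelIsCokernel φ) }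
    have hepi : ∀ j, Epi ((cokernel.π φ).f j) := fun j =>
      inferInstanceAs (Epi ((HomologicalComplex.eval C (.up ℤ) j).map (cokernel.π φ)))
    have hC : ∀ j, j ≠ a → IsZero ((cokernel φ).X j) := fun j hj => by
      have h0 : (cokernel.π φ).f j = 0 := by
        by_cases h : a + 1 ≤ j
        · have := hiso j h
          rw [← cancel_epi (φ.f j), ← HomologicalComplex.comp_f, cokernel.condition]
          simp
        · exact (hz j (by lia)).eq_of_src _ _
      have := hepi j
      exact IsZero.of_epi_eq_zero _ h0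
    have hSb : ∀ j, j < a + 1 ∨ a + 1 + (l : ℤ) ≤ j → IsZero (S.X j) := fun j hj => by
      rcases hj with hj | hj
      · exact hSlt j hj
      · exact hSz j (hz j (by lia))
    have : (cokernel φ).IsStrictlyGE a :=
      ((cokernel φ).isStrictlyGE_iff a).2 fun j hj => hC j (by lia)
    have : (cokernel φ).IsStrictlyLE a :=
      ((cokernel φ).isStrictlyLE_iff a).2 fun j hj => hC j (by lia)
    obtain ⟨M, ⟨eM₀⟩⟩ := CochainComplex.exists_iso_single (cokernel φ) a
    let eM : cokernel φ ≅ (CochainComplex.singleFunctor C a).obj M := eM₀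
    haveI : IsIso ((cokernel.π φ).f a) := by
      haveI := hepi a
      haveI : Mono ((cokernel.π φ).f a) :=
        (hT.map_of_exact (HomologicalComplex.eval C (.up ℤ) a)).exact.mono_g
          ((hSlt a (by lia)).eq_of_src _ _)
      exact isIso_of_mono_of_epi _
    let hMa : E.X a ≅ M := asIso ((cokernel.π φ).f a) ≪≫ HomologicalComplex.Hom.isoApp eM a ≪≫
      HomologicalComplex.singleObjXSelf (ComplexShape.up ℤ) a M
    let eC : (DerivedCategory.singleFunctor C a).obj M ≅ DerivedCategory.Q.obj (cokernel φ) :=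
      (DerivedCategory.singleFunctorIsoCompQ C a).app M ≪≫ DerivedCategory.Q.mapIso eM.symm
    have hd := DerivedCategory.triangleOfSES_distinguished hT
    -- restriction of endomorphisms
    have hres : ∀ ψ : E ⟶ E, ∃ ψS : S ⟶ S, ψS ≫ φ = φ ≫ ψ := fun ψ => by
      have h0 : ∀ j, ∃ g : S.X j ⟶ S.X j, g ≫ φ.f j = φ.f j ≫ ψ.f j := fun j => by
        by_cases h : a + 1 ≤ j
        · have := hiso j h
          exact ⟨φ.f j ≫ ψ.f j ≫ inv (φ.f j), by simp⟩
        · exact ⟨0, (hSlt j (by lia)).eq_of_src _ _⟩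
      choose g hg using h0
      refine ⟨{ f := g, comm' := fun j j' _ => ?_ }, HomologicalComplex.hom_ext _ _ hg⟩
      have := hm j'
      rw [← cancel_mono (φ.f j'), Category.assoc, ← φ.comm, reassoc_of% hg j, ψ.comm, φ.comm_assoc,
        Category.assoc, hg j']
    by_cases hja : j₀ = a
    · subst hja
      have hS : ∀ i', (i' = i ∨ i' = i + 1) → Van A (DerivedCategory.Q.obj S) i' := fun i' hi' => by
        refine van_Q_of_bounded.{w, w'} l (j₀ + 1) S hSb fun j q hj hj' hq => ?_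
        have := hiso j hj
        have := hE j q (by lia) (by lia) (by lia) (by lia)
        exact (extEquivOfIso (asIso (φ.f j))).subsingleton
      obtain ⟨e, he⟩ := exists_single.{w, w'} (A := A) M j₀ q₀ hsum
      refine ⟨(AddEquiv.ofBijective (push A i (DerivedCategory.triangleOfSES hT).mor₂)
        ⟨injective_push₂ hd (hS i (Or.inl rfl)), surjective_push₂ hd (hS _ (Or.inr rfl))⟩).trans
        ((congr A i eC.symm).trans (e.trans (extAddEquiv hMa.symm q₀))), fun ψ f => ?_⟩
      obtain ⟨ψS, hψS⟩ := hres ψ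
      let ψC : cokernel φ ⟶ cokernel φ := cokernel.map φ φ ψS ψ hψS.symm
      have hπ : cokernel.π φ ≫ ψC = ψ ≫ cokernel.π φ := cokernel.π_desc _ _ _
      obtain ⟨m, hm'⟩ := (CochainComplex.singleFunctor C j₀).map_surjective (eM.inv ≫ ψC ≫ eM.hom)
      have hC' : DerivedCategory.Q.map ψC ≫ eC.inv = eC.inv ≫ (DerivedCategory.singleFunctor C j₀).map m := by
        have h1 : ψC ≫ eM.hom = eM.hom ≫ (CochainComplex.singleFunctor C j₀).map m := by
          rw [hm', Iso.hom_inv_id_assoc]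
        have h2 := (DerivedCategory.singleFunctorIsoCompQ C j₀).inv.naturality m
        simp only [Functor.comp_map] at h2
        simp only [eC, Iso.trans_inv, Iso.symm_inv, Functor.mapIso_inv, Functor.mapIso_hom, Iso.app_inv]
        rw [← Category.assoc, ← Functor.map_comp, h1, Functor.map_comp, Category.assoc, h2, ← Category.assoc]
      have hM : hMa.inv ≫ ψ.f j₀ = m ≫ hMa.inv := by
        rw [Iso.inv_comp_eq, ← Category.assoc, Iso.eq_comp_inv]
        have h1 : ψ.f j₀ ≫ (cokernel.π φ).f j₀ = (cokernel.π φ).f j₀ ≫ ψC.f j₀ := by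
          rw [← HomologicalComplex.comp_f, ← HomologicalComplex.comp_f, hπ]
        have h2 : ψC.f j₀ ≫ eM₀.hom.f j₀ =
            eM₀.hom.f j₀ ≫ ((HomologicalComplex.single C (ComplexShape.up ℤ) j₀).map m).f j₀ := by
          change ψC.f j₀ ≫ eM.hom.f j₀ = eM.hom.f j₀ ≫ ((CochainComplex.singleFunctor C j₀).map m).f j₀
          rw [← HomologicalComplex.comp_f, ← HomologicalComplex.comp_f, hm', Iso.hom_inv_id_assoc]
        change ψ.f j₀ ≫ (cokernel.π φ).f j₀ ≫ eM₀.hom.f j₀ ≫
            (HomologicalComplex.singleObjXSelf (ComplexShape.up ℤ) j₀ M).hom =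
          ((cokernel.π φ).f j₀ ≫ eM₀.hom.f j₀ ≫
            (HomologicalComplex.singleObjXSelf (ComplexShape.up ℤ) j₀ M).hom) ≫ m
        simp only [Category.assoc]
        rw [reassoc_of% h1, reassoc_of% h2]
        simp [HomologicalComplex.single_map_f_self]
      change extAddEquiv hMa.symm q₀ (e (congr A i eC.symm
          ((f ≫ (DerivedCategory.Q.map ψ)⟦i⟧') ≫ (DerivedCategory.triangleOfSES hT).mor₂⟦i⟧'))) =
        (extAddEquiv hMa.symm q₀ (e (congr A i eC.symm (f ≫ (DerivedCategory.triangleOfSES hT).mor₂⟦i⟧')))).comp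
          (Abelian.Ext.mk₀ (ψ.f j₀)) (add_zero q₀)
      have h3 : congr A i eC.symm ((f ≫ (DerivedCategory.Q.map ψ)⟦i⟧') ≫
          (DerivedCategory.triangleOfSES hT).mor₂⟦i⟧') =
          congr A i eC.symm (f ≫ (DerivedCategory.triangleOfSES hT).mor₂⟦i⟧') ≫
            ((DerivedCategory.singleFunctor C j₀).map m)⟦i⟧' := by
        change ((f ≫ (DerivedCategory.Q.map ψ)⟦i⟧') ≫ (DerivedCategory.Q.map (cokernel.π φ))⟦i⟧') ≫ eC.inv⟦i⟧' =
          ((f ≫ (DerivedCategory.Q.map (cokernel.π φ))⟦i⟧') ≫ eC.inv⟦i⟧') ≫ _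
        simp only [Category.assoc, ← Functor.map_comp]
        congr 2
        rw [← hπ, Functor.map_comp, Category.assoc, hC']
      rw [h3, he]
      change (Abelian.Ext.comp _ (Abelian.Ext.mk₀ hMa.inv) (add_zero q₀)) = (Abelian.Ext.comp (Abelian.Ext.comp _ (Abelian.Ext.mk₀ hMa.inv) (add_zero q₀)) _ (add_zero q₀))
      rw [Abelian.Ext.comp_assoc_of_second_deg_zero, Abelian.Ext.comp_assoc_of_second_deg_zero,
        Abelian.Ext.mk₀_comp_mk₀, Abelian.Ext.mk₀_comp_mk₀, hM]
    · have hCv : ∀ i', (i' = i - 1 ∨ i' = i) → Van A (DerivedCategory.Q.obj (cokernel φ)) i' := fun i' hi' => by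
        refine (van_single.{w, w'} (A := A) M a fun q hq => ?_).of_iso eC
        have := hE a q le_rfl (by lia) (by lia) (Ne.symm hja)
        exact (extEquivOfIso hMa.symm).subsingleton
      obtain ⟨e, he⟩ := ih (a + 1) S hSb j₀ q₀ (by lia) (by lia) hsum fun j q hj hj' hq hne => by
        have := hiso j hj
        have := hE j q (by lia) (by lia) hq hne
        exact (extEquivOfIso (asIso (φ.f j))).subsingleton
      have := hiso j₀ (by lia)
      refine ⟨(AddEquiv.ofBijective (push A i (DerivedCategory.triangleOfSES hT).mor₁)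
        ⟨injective_push₁ hd (hCv _ (Or.inl rfl)), surjective_push₁ hd (hCv i (Or.inr rfl))⟩).symm.trans
        (e.trans (extAddEquiv (asIso (φ.f j₀)) q₀)), fun ψ f => ?_⟩
      obtain ⟨ψS, hψS⟩ := hres ψ
      let E₁ : Hi A (DerivedCategory.Q.obj S) i ≃+ Hi A (DerivedCategory.Q.obj E) i :=
        AddEquiv.ofBijective (push A i (DerivedCategory.triangleOfSES hT).mor₁)
        ⟨injective_push₁ hd (hCv _ (Or.inl rfl)), surjective_push₁ hd (hCv i (Or.inr rfl))⟩
      have h1 : E₁.symm (f ≫ (DerivedCategory.Q.map ψ)⟦i⟧') = E₁.symm f ≫ (DerivedCategory.Q.map ψS)⟦i⟧' := by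
        apply E₁.injective
        rw [AddEquiv.apply_symm_apply]
        conv_lhs => rw [← E₁.apply_symm_apply f]
        change (E₁.symm f ≫ (DerivedCategory.Q.map φ)⟦i⟧') ≫ (DerivedCategory.Q.map ψ)⟦i⟧' =
          (E₁.symm f ≫ (DerivedCategory.Q.map ψS)⟦i⟧') ≫ (DerivedCategory.Q.map φ)⟦i⟧'
        simp only [Category.assoc, ← Functor.map_comp, hψS]
      change extAddEquiv (asIso (φ.f j₀)) q₀ (e (E₁.symm (f ≫ (DerivedCategory.Q.map ψ)⟦i⟧'))) =
        (extAddEquiv (asIso (φ.f j₀)) q₀ (e (E₁.symm f))).comp (Abelian.Ext.mk₀ (ψ.f j₀)) (add_zero q₀)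
      rw [h1]
      refine (congrArg _ (he ψS (E₁.symm f))).trans ?_
      change (Abelian.Ext.comp (Abelian.Ext.comp _ _ (add_zero q₀)) (Abelian.Ext.mk₀ (φ.f j₀)) (add_zero q₀)) =
        (Abelian.Ext.comp (Abelian.Ext.comp _ (Abelian.Ext.mk₀ (φ.f j₀)) (add_zero q₀)) _ (add_zero q₀))
      rw [Abelian.Ext.comp_assoc_of_second_deg_zero, Abelian.Ext.comp_assoc_of_second_deg_zero,
        Abelian.Ext.mk₀_comp_mk₀, Abelian.Ext.mk₀_comp_mk₀, ← HomologicalComplex.comp_f, hψS,
        HomologicalComplex.comp_f]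

end Groth.Agent.Lib.HyperDeg62
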