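import Groth.Agent.Lib.HyperDeg62.Basic
import Groth.Agent.H95.HyperVanish
import Groth.Agent.Lib.ZarCoh.Compare
import Groth.Prelude.Def_KLinDR
import Groth.Agent.Lib.Bott.Coh

/-!
de Rham cohomology of projective space.
-/

set_option autoImplicit false
universe u
open CategoryTheory CategoryTheory.Limits AlgebraicGeometry TopologicalSpace Opposite

namespace Groth.Agent.Lib.HyperDeg62.ProjSpace

open Groth.Agent.Lib

variable {A : Type u} [CommRing A] {n : ℕ} [QuasiSeparated (CohB1.ProjSpace.toSpec n A)]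
  (D : DeRhamSh.OmegaCx (CohB1.ProjSpace.toSpec n A))


theorem isZero_KZ (j : ℤ) (hj : j < 0 ∨ 0 + ((n + 1 : ℕ) : ℤ) ≤ j) : IsZero (D.KZ.X j) := by
  by_cases h0 : j < 0
  · exact D.K.isZero_extend_X _ j fun p hp => by simp at hp; omega
  · obtain ⟨p, rfl⟩ : ∃ p : ℕ, (p : ℤ) = j := ⟨j.toNat, by omega⟩
    refine IsZero.of_iso ?_ (D.K.extendXIso ComplexShape.embeddingUpNat (i := p) rfl ≪≫ D.iso p)
    exact (SheafOfModules.toSheaf _).map_isZero (Bott.FreePow.isZero (Bott.Euler.rank_omega n A) (by omega) (D.isExtPow p))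

theorem subsingleton_ext (p q : ℕ) (h : p ≠ q) :
    Subsingleton (Abelian.Ext.{u} (CohCx.freeSheaf (Opens.grothendieckTopology (CohB1.ProjSpace n A)) (⊤ : Opens (CohB1.ProjSpace n A)))
      (D.KZ.X p) q) := by
  have h1 : Subsingleton (Coh.HH (CohB1.ProjSpace n A) (D.term p) q) := Bott.Coh.subsingleton_zero p _ (D.isExtPow p) q (Or.inl h)
  have h2 : Subsingleton (Abelian.Ext.{u} (CohCx.freeSheaf (Opens.grothendieckTopology (CohB1.ProjSpace n A)) (⊤ : Opens (CohB1.ProjSpace n A)))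
      (Coh.toAb (D.term p)) q) :=
    (ZarCoh.Compare.hTop (Coh.toAb (D.term p)) q).symm.toEquiv.subsingleton
  exact (H95.HyperVanish.extEquivOfIso
    (D.K.extendXIso ComplexShape.embeddingUpNat (i := p) rfl ≪≫ D.iso p)).subsingleton

variable [HasDerivedCategory.{u} (Sheaf (Opens.grothendieckTopology (CohB1.ProjSpace n A)) AddCommGrpCat.{u})]

theorem subsingleton_hdR (m : ℤ) (hm : ∀ i : ℕ, i ≤ n → m ≠ 2 * (i : ℤ)) :
    Subsingleton (DeRhamSh.HdR D m) := by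
  have hvan := H95.HyperVanish.van_Q_of_bounded (A := CohCx.freeSheaf (Opens.grothendieckTopology (CohB1.ProjSpace n A)) ⊤)
    (i := m) (n + 1) 0 D.KZ (isZero_KZ D) fun j q hj hj' hq => by
      obtain ⟨p, rfl⟩ : ∃ p : ℕ, (p : ℤ) = j := ⟨j.toNat, by omega⟩
      exact subsingleton_ext D p q fun hpq => hm p (by omega) (by omega)
  exact ⟨fun a b => (hvan a).trans (hvan b).symm⟩

theorem nonempty_hdR (i : ℕ) (hi : i ≤ n) : Nonempty (DeRhamSh.HdR D (2 * (i : ℤ)) ≃+ A) := by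
  obtain ⟨e, -⟩ := HyperDeg62.exists_addEquiv.{u, u} (A := CohCx.freeSheaf (Opens.grothendieckTopology (CohB1.ProjSpace n A)) ⊤)
    (i := 2 * (i : ℤ)) (n + 1) 0 D.KZ (isZero_KZ D) i i (by omega) (by omega) (by omega)
    fun j q hj hj' hq hne => by
      obtain ⟨p, rfl⟩ : ∃ p : ℕ, (p : ℤ) = j := ⟨j.toNat, by omega⟩
      exact subsingleton_ext D p q (by omega)
  obtain ⟨g⟩ := Bott.Coh.nonempty_diag i hi _ (D.isExtPow i)
  exact ⟨e.trans ((extAddEquiv (D.K.extendXIso ComplexShape.embeddingUpNat (i := i) rfl ≪≫ D.iso i) i).trans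
    ((ZarCoh.Compare.hTop (Coh.toAb (D.term i)) i).symm.trans g.toAddEquiv))⟩

theorem nonempty_linear (h : KLinDR.TermwiseLinear (Coh.toGlobal (CohB1.ProjSpace.toSpec n A)) D.K D.term D.iso)
    (i : ℕ) (hi : i ≤ n) :
    Nonempty (KLinDR.HdR (Coh.toGlobal (CohB1.ProjSpace.toSpec n A)) D h (2 * (i : ℤ)) ≃ₗ[A] A) := by
  obtain ⟨e, he⟩ := HyperDeg62.exists_addEquiv.{u, u} (A := CohCx.freeSheaf (Opens.grothendieckTopology (CohB1.ProjSpace n A)) ⊤)
    (i := 2 * (i : ℤ)) (n + 1) 0 D.KZ (isZero_KZ D) i i (by omega) (by omega) (by omega)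
    fun j q hj hj' hq hne => by
      obtain ⟨p, rfl⟩ : ∃ p : ℕ, (p : ℤ) = j := ⟨j.toNat, by omega⟩
      exact subsingleton_ext D p q (by omega)
  obtain ⟨g⟩ := Bott.Coh.nonempty_diag i hi _ (D.isExtPow i)
  let X' : D.KZ.X i ≅ Coh.toAb (D.term i) := D.K.extendXIso ComplexShape.embeddingUpNat (i := i) rfl ≪≫ D.iso i
  let E : KLinDR.HdR (Coh.toGlobal (CohB1.ProjSpace.toSpec n A)) D h (2 * (i : ℤ)) ≃+ Coh.HH (CohB1.ProjSpace n A) (D.term i) i :=
    KLinDR.HTρ.toHT.trans (e.trans ((extAddEquiv X' i).trans (ZarCoh.Compare.hTop (Coh.toAb (D.term i)) i).symm))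
  refine ⟨({ E with map_smul' := fun a y => ?_ } :
    KLinDR.HdR (Coh.toGlobal (CohB1.ProjSpace.toSpec n A)) D h (2 * (i : ℤ)) ≃ₗ[A] Coh.HH (CohB1.ProjSpace n A) (D.term i) i) ≪≫ₗ g⟩
  change (ZarCoh.Compare.hTop (Coh.toAb (D.term i)) i).symm (extAddEquiv X' i (e ((KLinDR.HTρ.toHT y) ≫
      (DerivedCategory.Q.map (KLinDR.scalar h a))⟦(2 * (i : ℤ))⟧'))) =
    Sheaf.H.map (Coh.smulAb (D.term i) (Coh.toGlobal (CohB1.ProjSpace.toSpec n A) a)) i
      ((ZarCoh.Compare.hTop (Coh.toAb (D.term i)) i).symm (extAddEquiv X' i (e (KLinDR.HTρ.toHT y))))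
  rw [he]
  have hf : (KLinDR.scalar h a : D.KZ ⟶ D.KZ).f (i : ℤ) ≫ X'.hom =
      X'.hom ≫ Coh.smulAb (D.term i) (Coh.toGlobal (CohB1.ProjSpace.toSpec n A) a) := by
    rw [KLinDR.scalar_f]
    simp [X', KLinDR.scalarEnd]
  change (Abelian.Ext.mk₀ _).comp ((Abelian.Ext.comp _ _ (add_zero i)).comp (Abelian.Ext.mk₀ X'.hom) (add_zero i))
      (zero_add i) =
    ((Abelian.Ext.mk₀ _).comp (Abelian.Ext.comp _ (Abelian.Ext.mk₀ X'.hom) (add_zero i)) (zero_add i)).comp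
      (Abelian.Ext.mk₀ _) (add_zero i)
  simp only [Abelian.Ext.comp_assoc_of_second_deg_zero, Abelian.Ext.comp_assoc_of_third_deg_zero,
    Abelian.Ext.mk₀_comp_mk₀, hf]

end Groth.Agent.Lib.HyperDeg62.ProjSpace
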